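import Groth.Agent.L05.NumContract.TopGenus

/-!
# The bound `m i * |a i j| ≤ 768 * genus` for minimal numerical types

Along a chain of (-2)-indices the function `i ↦ m i * w i` is concave, and near a maximum which is far
from the other indices it is locally constant; no classification is needed.
-/

namespace Groth.L05.NumContract

open Finset Models Models.NumericalType Groth.L26.NumType

variable {n : ℕ} (T : NumericalType n)

/-- `(-2)`-indices at distance at most `d` from an index adjacent to a non-`(-2)`-index. -/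
def Near : ℕ → Fin n → Prop
  | 0, i => T.IsMinusTwo i ∧ ∃ j, ¬T.IsMinusTwo j ∧ 0 < T.a i j
  | d + 1, i => Near d i ∨ T.IsMinusTwo i ∧ ∃ j, Near d j ∧ 0 < T.a i j

/-- The weighted multiplicity. -/
def c (i : Fin n) : ℤ := T.m i * T.w i

theorem c_pos (i : Fin n) : 0 < c T i := mul_pos (T.m_pos i) (T.w_pos i)

theorem near_minusTwo : ∀ {d : ℕ} {i : Fin n}, Near T d i → T.IsMinusTwo i
  | 0, _, h => h.1
  | _ + 1, _, .inl h => near_minusTwo h
  | _ + 1, _, .inr h => h.1

theorem near_mono {i : Fin n} : ∀ {d e : ℕ}, d ≤ e → Near T d i → Near T e i := by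
  intro d e h hd
  induction h with
  | refl => exact hd
  | step _ ih => exact Or.inl ih

theorem two_c {i : Fin n} (hi : T.IsMinusTwo i) :
    ∑ j ∈ univ.erase i, T.a i j * T.m j = 2 * c T i := by
  rw [row_sum_erase, hi.2]; unfold c; ring

theorem exists_mult {i j : Fin n} (h : 0 < T.a i j) :
    ∃ k : ℤ, 1 ≤ k ∧ T.a i j * T.m j = k * c T j := by
  obtain ⟨k, hk⟩ : T.w j ∣ T.a i j := by rw [a_symm T]; exact T.w_dvd _ _
  refine ⟨k, ?_, by rw [hk]; unfold c; ring⟩
  rw [hk] at h
  have := pos_of_mul_pos_right h (T.w_pos j).le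
  omega

theorem c_le_term {i j : Fin n} (h : 0 < T.a i j) : c T j ≤ T.a i j * T.m j := by
  obtain ⟨k, hk, e⟩ := exists_mult T h
  rw [e]
  exact le_mul_of_one_le_left (c_pos T j).le hk

theorem ne_of_pos {i j : Fin n} (hi : T.IsMinusTwo i) (h : 0 < T.a i j) : i ≠ j := by
  rintro rfl
  rw [hi.2] at h
  have := T.w_pos i
  omega

theorem c_le_two {i j : Fin n} (hi : T.IsMinusTwo i) (h : 0 < T.a i j) : c T j ≤ 2 * c T i := by
  rw [← two_c T hi]
  refine (c_le_term T h).trans (single_le_sum (f := fun l => T.a i l * T.m l) (fun l hl => ?_)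
    (mem_erase.2 ⟨(ne_of_pos T hi h).symm, mem_univ j⟩))
  exact mul_nonneg (T.offDiag_nonneg i l (Ne.symm (mem_erase.1 hl).1)) (T.m_pos l).le

theorem c_concave {i j k : Fin n} (hi : T.IsMinusTwo i) (hj : 0 < T.a i j) (hk : 0 < T.a i k)
    (hjk : j ≠ k) : c T j + c T k ≤ 2 * c T i := by
  rw [← two_c T hi]
  refine (add_le_add (c_le_term T hj) (c_le_term T hk)).trans ?_
  rw [← sum_pair (f := fun l => T.a i l * T.m l) hjk]
  refine sum_le_sum_of_subset_of_nonneg (fun l hl => ?_) fun l hl _ => ?_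
  · rw [mem_insert, mem_singleton] at hl
    rcases hl with rfl | rfl
    exacts [mem_erase.2 ⟨(ne_of_pos T hi hj).symm, mem_univ _⟩,
      mem_erase.2 ⟨(ne_of_pos T hi hk).symm, mem_univ _⟩]
  · exact mul_nonneg (T.offDiag_nonneg i l (Ne.symm (mem_erase.1 hl).1)) (T.m_pos l).le

theorem exists_slope : ∀ {d : ℕ} {i : Fin n}, Near T (d + 1) i → ¬Near T d i →
    ∃ j, 0 < T.a i j ∧ Near T d j ∧ (∀ e < d, ¬Near T e j) ∧
      ((d : ℤ) + 1) * (c T i - c T j) < c T i := by
  intro d
  induction d with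
  | zero =>
    intro i h h0
    rcases h with h | ⟨-, j, hj, hij⟩
    · exact absurd h h0
    refine ⟨j, hij, hj, fun e he => absurd he (Nat.not_lt_zero e), ?_⟩
    have := c_pos T j
    simp only [Nat.cast_zero, zero_add, one_mul]
    omega
  | succ d ih =>
    intro i h h0
    rcases h with h | ⟨hi2, j, hj, hij⟩
    · exact absurd h h0
    have hnj : ∀ e < d + 1, ¬Near T e j := fun e he hje =>
      h0 (near_mono T (by omega : e + 1 ≤ d + 1) (Or.inr ⟨hi2, j, hje, hij⟩))
    obtain ⟨k, hjk, hk, -, hsl⟩ := ih hj (hnj d (Nat.lt_succ_self d))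
    refine ⟨j, hij, hj, hnj, ?_⟩
    have hik : i ≠ k := fun e => h0 (Or.inl (e ▸ hk))
    have hc := c_concave T (near_minusTwo T hj) (by rw [a_symm T]; exact hij) hjk hik
    have : ((d : ℤ) + 1) * (c T i - c T j) ≤ ((d : ℤ) + 1) * (c T j - c T k) :=
      mul_le_mul_of_nonneg_left (by omega) (by omega)
    push_cast
    linarith

theorem c_le_pow_of_near {B : ℤ} (hB : ∀ i, Near T 0 i → c T i ≤ B) :
    ∀ {d : ℕ} {i : Fin n}, Near T d i → c T i ≤ 2 ^ d * B
  | 0, i, h => by simpa using hB i h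
  | d + 1, i, .inl h => by
    have h1 := c_le_pow_of_near hB h
    have := c_pos T i
    rw [pow_succ, mul_comm _ (2 : ℤ), mul_assoc]
    omega
  | d + 1, i, .inr ⟨_, j, hj, hij⟩ => by
    have h1 := c_le_pow_of_near hB hj
    have h2 := c_le_two T (near_minusTwo T hj) (i := j) (j := i) (by rw [a_symm T]; exact hij)
    rw [pow_succ, mul_comm _ (2 : ℤ), mul_assoc]
    omega

/-- A neighbour `k` of a maximum `i` all of whose neighbours are `(-2)`-indices. -/
theorem term_cases {i k : Fin n} (hi : T.IsMinusTwo i) (hik : 0 < T.a i k) (hk : T.IsMinusTwo k)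
    (hk' : ∀ l, 0 < T.a k l → T.IsMinusTwo l) (hle : c T k ≤ c T i) :
    c T i ≤ 2 * (T.a i k * T.m k) ∧
      ((T.a i k * T.m k ≤ c T i ∧ (2 * (T.a i k * T.m k) = c T i ∨ 2 * c T i ≤ 3 * (T.a i k * T.m k)))
        ∨ 4 * c T i ≤ 3 * (T.a i k * T.m k)) := by
  have hki : 0 < T.a k i := by rw [a_symm T]; exact hik
  have hhalf := c_le_two T hk hki
  have hcases : 2 * c T k = c T i ∨ 2 * c T i ≤ 3 * c T k := by
    by_cases h : ∃ l, l ≠ i ∧ 0 < T.a k l
    · obtain ⟨l, hli, hkl⟩ := h
      refine Or.inr ?_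
      have h1 := c_concave T hk hki hkl hli.symm
      have h2 := c_le_two T (hk' l hkl) (i := l) (j := k) (by rw [a_symm T]; exact hkl)
      omega
    · push Not at h
      have hs := two_c T hk
      rw [sum_eq_single_of_mem i (mem_erase.2 ⟨ne_of_pos T hi hik, mem_univ i⟩) fun l hl hli => by
        rw [le_antisymm (h l hli) (T.offDiag_nonneg k l (Ne.symm (mem_erase.1 hl).1)), zero_mul]] at hs
      obtain ⟨q, hq, e⟩ := exists_mult T hki
      have := c_pos T i
      rw [e] at hs
      rcases eq_or_lt_of_le hq with rfl | hq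
      · exact Or.inl (by omega)
      · have : 2 * c T i ≤ q * c T i := mul_le_mul_of_nonneg_right (by omega) (by omega)
        exact Or.inr (by omega)
  obtain ⟨p, hp, e⟩ := exists_mult T hik
  rw [e]
  have hpos := c_pos T k
  rcases eq_or_lt_of_le hp with rfl | hp2
  · omega
  rcases eq_or_lt_of_le (show (2 : ℤ) ≤ p by omega) with rfl | hp3
  · omega
  have : 3 * c T k ≤ p * c T k := mul_le_mul_of_nonneg_right (by omega) (by omega)
  omega

theorem eq_of_far_max {i j : Fin n} (hi : T.IsMinusTwo i) (hij : 0 < T.a i j)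
    (hmax : ∀ k, T.IsMinusTwo k → c T k ≤ c T i) (hn1 : ∀ k, 0 < T.a i k → T.IsMinusTwo k)
    (hn2 : ∀ k l, 0 < T.a i k → 0 < T.a k l → T.IsMinusTwo l)
    (hslope : 7 * (c T i - c T j) < c T i) : c T j = c T i := by
  classical
  have hjle := hmax j (hn1 j hij)
  set S := (univ.erase i).filter fun k => k ≠ j ∧ 0 < T.a i k with hS
  have hsum : T.a i j * T.m j + ∑ k ∈ S, T.a i k * T.m k = 2 * c T i := by
    rw [← two_c T hi, ← add_sum_erase _ _ (mem_erase.2 ⟨(ne_of_pos T hi hij).symm, mem_univ j⟩)]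
    congr 1
    refine sum_subset (fun k hk => ?_) fun k hk hk' => ?_
    · simp only [hS, mem_filter] at hk
      exact mem_erase.2 ⟨hk.2.1, hk.1⟩
    · simp only [hS, mem_filter, not_and, not_lt] at hk'
      rw [le_antisymm (hk' (mem_erase.1 hk).2 (mem_erase.1 hk).1)
        (T.offDiag_nonneg i k (Ne.symm (mem_erase.1 (mem_erase.1 hk).2).1)), zero_mul]
  have hterm := fun k (hk : k ∈ S) => term_cases T hi (mem_filter.1 hk).2.2
    (hn1 k (mem_filter.1 hk).2.2) (fun l => hn2 k l (mem_filter.1 hk).2.2)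
    (hmax k (hn1 k (mem_filter.1 hk).2.2))
  have hpos := c_pos T i
  obtain ⟨p, hp, e⟩ := exists_mult T hij
  rcases eq_or_lt_of_le hp with rfl | hp2
  · rw [e, one_mul] at hsum
    rcases Nat.lt_or_ge #S 3 with hc | hc
    · interval_cases hcard : #S
      · rw [card_eq_zero.1 hcard, sum_empty] at hsum
        omega
      · obtain ⟨a, ha⟩ := card_eq_one.1 hcard
        rw [ha, sum_singleton] at hsum
        have := hterm a (by rw [ha]; exact mem_singleton_self a)
        omega
      · obtain ⟨a, b, hab, ha⟩ := card_eq_two.1 hcard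
        rw [ha, sum_pair hab] at hsum
        have := hterm a (by rw [ha]; exact mem_insert_self a _)
        have := hterm b (by rw [ha]; exact mem_insert_of_mem (mem_singleton_self b))
        omega
    · have h3 : (#S : ℤ) * c T i ≤ 2 * ∑ k ∈ S, T.a i k * T.m k := by
        rw [mul_sum, ← nsmul_eq_mul]
        exact card_nsmul_le_sum _ _ _ fun k hk => (hterm k hk).1
      have : 3 * c T i ≤ (#S : ℤ) * c T i := mul_le_mul_of_nonneg_right (by omega) hpos.le
      omega
  · rcases S.eq_empty_or_nonempty with hS0 | ⟨k, hk⟩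
    · rw [hS0, sum_empty, add_zero, e] at hsum
      rcases eq_or_lt_of_le (show (2 : ℤ) ≤ p by omega) with rfl | hp3
      · omega
      · have : 3 * c T j ≤ p * c T j := mul_le_mul_of_nonneg_right (by omega) (c_pos T j).le
        omega
    · have h1 : T.a i k * T.m k ≤ ∑ k ∈ S, T.a i k * T.m k := by
        refine single_le_sum (f := fun k => T.a i k * T.m k) (fun l hl => ?_) hk
        exact (mul_pos (mem_filter.1 hl).2.2 (T.m_pos l)).le
      have h2 := (hterm k hk).1
      have : 2 * c T j ≤ p * c T j := mul_le_mul_of_nonneg_right (by omega) (c_pos T j).le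
      rw [e] at hsum
      omega

theorem c_le (hmin : T.IsMinimal) (hg : 2 ≤ T.genus) (hn : 1 < n) {i : Fin n}
    (hi : T.IsMinusTwo i) : c T i ≤ 384 * T.genus := by
  classical
  set B := 6 * T.genus - 6
  have hB : ∀ i, Near T 0 i → c T i ≤ B := by
    rintro i ⟨-, j, hj, hij⟩
    exact (mul_le_mul_of_nonneg_left (Int.le_of_dvd hij (T.w_dvd i j)) (T.m_pos i).le).trans
      ((bounds_non_minusTwo T hmin hn hj).2.2 i)
  have hreach : ∀ i, T.IsMinusTwo i → ∃ d, Near T d i := by
    by_contra hno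
    push Not at hno
    obtain ⟨i₀, hi₀, hi₀'⟩ := hno
    let I : Finset (Fin n) := univ.filter fun i => T.IsMinusTwo i ∧ ∀ d, ¬Near T d i
    have hIne : I ≠ univ := fun e => by
      have hall : ∀ j, T.IsMinusTwo j := fun j =>
        (mem_filter.1 ((e ▸ mem_univ j : j ∈ I))).2.1
      have := two_genus T
      rw [sum_eq_zero fun j _ => contrib_minusTwo T (hall j)] at this
      omega
    obtain ⟨a, ha, b, hb, hab⟩ := T.connected I ⟨i₀, mem_filter.2 ⟨mem_univ _, hi₀, hi₀'⟩⟩ hIne
    have hpos : 0 < T.a a b :=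
      lt_of_le_of_ne (T.offDiag_nonneg a b fun e => hb (e ▸ ha)) hab.symm
    simp only [I, mem_filter, mem_univ, true_and] at ha hb
    by_cases hb2 : T.IsMinusTwo b
    · push Not at hb
      obtain ⟨d, hd⟩ := hb hb2
      exact ha.2 (d + 1) (Or.inr ⟨ha.1, b, hd, hpos⟩)
    · exact ha.2 0 ⟨ha.1, b, hb2, hpos⟩
  obtain ⟨i₀, hi₀, hmax⟩ := (univ.filter fun i => T.IsMinusTwo i).exists_max_image (c T)
    ⟨i, mem_filter.2 ⟨mem_univ i, hi⟩⟩
  replace hmax : ∀ k, T.IsMinusTwo k → c T k ≤ c T i₀ := fun k hk => hmax k (mem_filter.2 ⟨mem_univ k, hk⟩)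
  replace hi₀ := (mem_filter.1 hi₀).2
  obtain ⟨d₀, hd₀⟩ := hreach i₀ hi₀
  have hex : ∃ d, ∃ k, c T k = c T i₀ ∧ Near T d k := ⟨d₀, i₀, rfl, hd₀⟩
  obtain ⟨k, hk, hkd⟩ := Nat.find_spec hex
  refine (hmax i hi).trans ?_
  have hsmall : Nat.find hex ≤ 6 := by
    by_contra hlt
    obtain ⟨D, hD⟩ : ∃ D, Nat.find hex = D + 1 := ⟨Nat.find hex - 1, by omega⟩
    rw [hD] at hkd
    have hk0 : ∀ e, e < D + 1 → ¬Near T e k := fun e he hke =>
      Nat.find_min hex (by omega) ⟨k, hk, hke⟩
    obtain ⟨j, hkj, hj, hjmin, hslope⟩ := exists_slope T hkd (hk0 D (Nat.lt_succ_self D))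
    have hn1 : ∀ l, 0 < T.a k l → T.IsMinusTwo l := fun l hl => by_contra fun hl2 =>
      hk0 0 (Nat.succ_pos D) ⟨near_minusTwo T hkd, l, hl2, hl⟩
    have h7 : (7 : ℤ) * (c T k - c T j) ≤ ((D : ℤ) + 1) * (c T k - c T j) :=
      mul_le_mul_of_nonneg_right (by omega) (by have := hmax j (near_minusTwo T hj); omega)
    have := eq_of_far_max T (near_minusTwo T hkd) hkj (fun l hl => hk.symm ▸ hmax l hl) hn1
      (fun l l' hl hl' => by_contra fun hl2 => hk0 1 (by omega)
        (Or.inr ⟨near_minusTwo T hkd, l, ⟨hn1 l hl, l', hl2, hl'⟩, hl⟩)) (by omega)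
    exact Nat.find_min hex (show D < Nat.find hex by omega) ⟨j, this.trans hk, hj⟩
  have h1 := c_le_pow_of_near T hB hkd
  have h2 : (2 : ℤ) ^ Nat.find hex ≤ 2 ^ 6 := pow_le_pow_right₀ (by norm_num) hsmall
  have h3 : (2 : ℤ) ^ Nat.find hex * B ≤ 2 ^ 6 * B := mul_le_mul_of_nonneg_right h2 (by omega)
  norm_num at h3
  omega

theorem mul_abs_le (hmin : T.IsMinimal) (hg : 2 ≤ T.genus) (i j : Fin n) :
    T.m i * |T.a i j| ≤ 768 * T.genus := by
  rcases Nat.lt_or_ge 1 n with hn | hn
  · have hdiag : ∀ k, T.m k * |T.a k k| ≤ 768 * T.genus := fun k => by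
      by_cases hk : T.IsMinusTwo k
      · have := c_le T hmin hg hn hk
        rw [hk.2, neg_mul, abs_neg, abs_of_nonneg (by have := T.w_pos k; omega)]
        unfold c at this
        linarith
      · have := (bounds_non_minusTwo T hmin hn hk).2.1
        omega
    rcases eq_or_ne i j with rfl | hij
    · exact hdiag i
    rcases (T.offDiag_nonneg i j hij).lt_or_eq with h | h
    · rw [abs_of_pos h]
      have h1 := le_of_pos_offDiag T (i := j) (j := i) (by rw [a_symm T]; exact h) hij.symm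
      have h2 := hdiag j
      rw [abs_of_neg (diag_neg T hn j)] at h2
      rw [a_symm T j i] at h1
      linarith
    · rw [← h, abs_zero, mul_zero]; omega
  · have h0 : n = 1 := by have := T.pos; omega
    subst h0
    have := row_sum T i
    rw [Fin.sum_univ_one, Subsingleton.elim 0 j] at this
    rw [(mul_eq_zero.1 this).resolve_right (T.m_pos j).ne', abs_zero, mul_zero]
    omega

end Groth.L05.NumContract
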