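import Groth.Agent.L26.NumType.Basic
import Mathlib.Algebra.BigOperators.Fin
import Mathlib.GroupTheory.Subgroup.Saturated
import Mathlib.Algebra.Group.Subgroup.ZPowers.Basic
import Mathlib.Data.Int.GCD
import Mathlib.RingTheory.Int.Basic

/-!
# Contraction of a numerical type at a (-1)-index
-/

namespace Groth.L05.NumContract

open Finset Models Models.NumericalType Groth.L26.NumType

variable {n : ℕ} (T : NumericalType (n + 1))

/-- The halving factor of an index. -/
def fac (i : Fin n) : ℤ :=
  if 2 ∣ T.a i.castSucc (Fin.last n) / T.w (Fin.last n) ∧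
      ¬ 2 ∣ T.a i.castSucc (Fin.last n) / T.w i.castSucc then 2 else 1

/-- The new weights. -/
def newW (i : Fin n) : ℤ :=
  if 2 ∣ T.a i.castSucc (Fin.last n) / T.w (Fin.last n) ∧
      ¬ 2 ∣ T.a i.castSucc (Fin.last n) / T.w i.castSucc
  then T.w i.castSucc / 2 else T.w i.castSucc

/-- The new matrix. -/
def newA (i j : Fin n) : ℤ :=
  T.a i.castSucc j.castSucc -
    T.a i.castSucc (Fin.last n) * T.a j.castSucc (Fin.last n) / T.a (Fin.last n) (Fin.last n)

/-- The new genera. -/
def newG (i : Fin n) : ℤ :=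
  T.w i.castSucc / newW T i * (T.g i.castSucc - 1) + 1 +
    (T.a i.castSucc (Fin.last n) ^ 2 - T.w (Fin.last n) * T.a i.castSucc (Fin.last n)) /
      (2 * newW T i * T.w (Fin.last n))

theorem fac_cases (i : Fin n) : fac T i = 1 ∨ fac T i = 2 := by
  unfold fac; split_ifs <;> simp

theorem fac_mul_newW (i : Fin n) : fac T i * newW T i = T.w i.castSucc := by
  obtain ⟨p, hp⟩ := T.w_dvd i.castSucc (Fin.last n)
  obtain ⟨q, hq⟩ : T.w (Fin.last n) ∣ T.a i.castSucc (Fin.last n) := by
    rw [a_symm T]; exact T.w_dvd _ _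
  unfold fac newW
  split_ifs with h
  · obtain ⟨⟨c, hc⟩, hodd⟩ := h
    rw [hq, Int.mul_ediv_cancel_left _ (T.w_pos _).ne'] at hc
    rw [hp, Int.mul_ediv_cancel_left _ (T.w_pos _).ne'] at hodd
    refine Int.mul_ediv_cancel' ?_
    have h2 : (2 : ℤ) ∣ T.w i.castSucc * p := ⟨T.w (Fin.last n) * c, by rw [← hp, hq, hc]; ring⟩
    exact (Int.prime_two.dvd_or_dvd h2).resolve_right hodd
  · rw [one_mul]

theorem newW_pos (i : Fin n) : 0 < newW T i := by
  have h := fac_mul_newW T i
  have := T.w_pos i.castSucc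
  rcases fac_cases T i with hf | hf <;> rw [hf] at h <;> omega

variable {T} (h : T.IsMinusOne (Fin.last n))

include h

theorem newA_eq (i j : Fin n) {q : ℤ} (hq : T.a j.castSucc (Fin.last n) = T.w (Fin.last n) * q) :
    newA T i j = T.a i.castSucc j.castSucc + T.a i.castSucc (Fin.last n) * q := by
  unfold newA
  rw [h.2, hq, Int.ediv_neg, sub_neg_eq_add, mul_left_comm,
    Int.mul_ediv_cancel_left _ (T.w_pos _).ne']

omit h in
theorem exists_quot (j : Fin (n + 1)) : ∃ q, T.a j (Fin.last n) = T.w (Fin.last n) * q := by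
  rw [a_symm T]; exact T.w_dvd _ _

theorem sum_last_col :
    ∑ i : Fin n, T.a i.castSucc (Fin.last n) * T.m i.castSucc = T.w (Fin.last n) * T.m (Fin.last n) := by
  have := row_sum T (Fin.last n)
  rw [Fin.sum_univ_castSucc, h.2] at this
  simp only [a_symm T (Fin.last n)] at this
  linarith

theorem pos_n : 0 < n := by
  rcases Nat.eq_zero_or_pos n with h0 | h0
  · subst h0
    have := sum_last_col h
    simp only [Finset.univ_eq_empty, Finset.sum_empty] at this
    have := mul_pos (T.w_pos (Fin.last 0)) (T.m_pos (Fin.last 0))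
    omega
  · exact h0

theorem two_mul_genus_num (i : Fin n) :
    2 * newW T i * (newG T i - 1) = 2 * T.w i.castSucc * (T.g i.castSucc - 1) +
      (T.a i.castSucc (Fin.last n) ^ 2 - T.w (Fin.last n) * T.a i.castSucc (Fin.last n)) / T.w (Fin.last n)
    ∧ 0 ≤ newG T i := by
  have hw := fac_mul_newW T i
  have hwp := newW_pos T i
  obtain ⟨p, hp⟩ := T.w_dvd i.castSucc (Fin.last n)
  obtain ⟨q, hq⟩ := exists_quot (T := T) i.castSucc
  have hwl := T.w_pos (Fin.last n)
  have hwi := T.w_pos i.castSucc
  have hq0 : 0 ≤ q := by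
    have := T.offDiag_nonneg i.castSucc (Fin.last n) (Fin.castSucc_lt_last i).ne
    rw [hq] at this
    exact nonneg_of_mul_nonneg_right this hwl
  have hp0 : 0 ≤ p := by
    have := T.offDiag_nonneg i.castSucc (Fin.last n) (Fin.castSucc_lt_last i).ne
    rw [hp] at this
    exact nonneg_of_mul_nonneg_right this hwi
  have hnum : T.a i.castSucc (Fin.last n) ^ 2 - T.w (Fin.last n) * T.a i.castSucc (Fin.last n) =
      T.w (Fin.last n) * (T.w i.castSucc * (p * (q - 1))) := by
    rw [pow_two]; nth_rewrite 1 [hq]; rw [hp]; ring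
  have hg := T.g_nonneg i.castSucc
  have hpq : T.w i.castSucc * p = T.w (Fin.last n) * q := hp.symm.trans hq
  -- parity
  obtain ⟨d, hd⟩ : (2 : ℤ) ∣ fac T i * (p * (q - 1)) := by
    unfold fac
    rw [hp, Int.mul_ediv_cancel_left _ hwi.ne', ← hp, hq, Int.mul_ediv_cancel_left _ hwl.ne']
    split_ifs with hc
    · exact dvd_mul_right 2 _
    · rw [one_mul]
      by_cases h2 : (2 : ℤ) ∣ q
      · have : (2 : ℤ) ∣ p := by_contra fun h3 => hc ⟨h2, h3⟩
        exact this.mul_right _
      · exact Dvd.dvd.mul_left (by omega) _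
  have hdiv : (T.w (Fin.last n) * (T.w i.castSucc * (p * (q - 1)))) / (2 * newW T i * T.w (Fin.last n)) = d := by
    rw [show T.w (Fin.last n) * (T.w i.castSucc * (p * (q - 1))) = 2 * newW T i * T.w (Fin.last n) * d by
      rw [← hw, show 2 * newW T i * T.w (Fin.last n) * d = newW T i * T.w (Fin.last n) * (2 * d) by ring,
        ← hd]; ring]
    exact Int.mul_ediv_cancel_left _ (mul_pos (mul_pos two_pos hwp) hwl).ne'
  have hratio : T.w i.castSucc / newW T i = fac T i := by
    rw [← hw]; exact Int.mul_ediv_cancel _ hwp.ne'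
  unfold newG
  rw [hnum, hdiv, hratio, Int.mul_ediv_cancel_left _ hwl.ne']
  refine ⟨?_, ?_⟩
  · rw [← hw, show fac T i * newW T i * (p * (q - 1)) = newW T i * (fac T i * (p * (q - 1))) by ring, hd]
    ring
  · -- nonnegativity
    rcases fac_cases T i with hf | hf
    · rw [hf, one_mul] at hd
      rw [hf, one_mul]
      rcases hq0.lt_or_eq with hqp | hqp
      · have : 0 ≤ p * (q - 1) := mul_nonneg hp0 (by omega)
        omega
      · rw [← hqp, mul_zero, mul_eq_zero] at hpq
        rw [(hpq.resolve_left hwi.ne'), zero_mul] at hd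
        omega
    · have h2 := hf
      unfold fac at h2
      rw [hp, Int.mul_ediv_cancel_left _ hwi.ne', ← hp, hq, Int.mul_ediv_cancel_left _ hwl.ne'] at h2
      split_ifs at h2 with hc
      · obtain ⟨⟨c, hc'⟩, hodd⟩ := hc
        have hp1 : 0 < p := lt_of_le_of_ne hp0 fun e => hodd (e ▸ dvd_zero 2)
        have hq1 : q ≠ 0 := fun e => by
          rw [e, mul_zero] at hpq
          exact (mul_pos hwi hp1).ne' hpq
        have : 0 < p * (q - 1) := mul_pos hp1 (by omega)
        rw [hf] at hd ⊢
        omega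
      · omega

/-- The contracted numerical type. -/
def contract : NumericalType n where
  m i := T.m i.castSucc
  a := newA T
  w := newW T
  g := newG T
  pos := pos_n h
  m_pos i := T.m_pos _
  w_pos := newW_pos T
  g_nonneg i := (two_mul_genus_num h i).2
  symm := Matrix.IsSymm.ext fun i j => by
    show newA T j i = newA T i j
    unfold newA
    rw [a_symm T i.castSucc j.castSucc, mul_comm (T.a j.castSucc (Fin.last n))]
  offDiag_nonneg i j hij := by
    obtain ⟨q, hq⟩ := exists_quot (T := T) j.castSucc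
    rw [newA_eq h i j hq]
    have h1 := T.offDiag_nonneg j.castSucc (Fin.last n) (Fin.castSucc_lt_last j).ne
    rw [hq] at h1
    exact add_nonneg (T.offDiag_nonneg _ _ fun e => hij (Fin.castSucc_injective _ e))
      (mul_nonneg (T.offDiag_nonneg _ _ (Fin.castSucc_lt_last i).ne)
        (nonneg_of_mul_nonneg_right h1 (T.w_pos _)))
  connected I hI hI' := by
    classical
    by_contra hno
    push Not at hno
    have hpos : ∀ i ∈ I, ∀ j ∉ I, T.a i.castSucc j.castSucc = 0 ∧
        (T.a i.castSucc (Fin.last n) = 0 ∨ T.a j.castSucc (Fin.last n) = 0) := by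
      intro i hi j hj
      obtain ⟨q, hq⟩ := exists_quot (T := T) j.castSucc
      have hij : i.castSucc ≠ j.castSucc := fun e => hj (Fin.castSucc_injective _ e ▸ hi)
      have h0 := hno i hi j hj
      rw [newA_eq h i j hq] at h0
      have h1 := T.offDiag_nonneg j.castSucc (Fin.last n) (Fin.castSucc_lt_last j).ne
      rw [hq] at h1
      have h2 := T.offDiag_nonneg _ _ hij
      have h3 := mul_nonneg (T.offDiag_nonneg _ _ (Fin.castSucc_lt_last i).ne)
        (nonneg_of_mul_nonneg_right h1 (T.w_pos _))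
      refine ⟨by omega, ?_⟩
      rcases mul_eq_zero.1 (show T.a i.castSucc (Fin.last n) * q = 0 by omega) with e | e
      · exact Or.inl e
      · exact Or.inr (by rw [hq, e, mul_zero])
    have side : ∀ (S : Finset (Fin n)), S.Nonempty →
        (∀ i ∈ S, ∀ j ∉ S, T.a i.castSucc j.castSucc = 0) →
        ∃ i ∈ S, T.a i.castSucc (Fin.last n) ≠ 0 := by
      intro S hS hz
      obtain ⟨i, hi, j, hj, hij⟩ := T.connected (S.map Fin.castSuccEmb) (hS.map) (by
        intro e
        have := e ▸ mem_univ (Fin.last n)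
        simp [Fin.castSuccEmb] at this
        obtain ⟨a, -, ha⟩ := this
        exact (Fin.castSucc_lt_last a).ne ha)
      rw [mem_map] at hi
      obtain ⟨i, hi, rfl⟩ := hi
      cases j using Fin.lastCases with
      | last => exact ⟨i, hi, hij⟩
      | cast j => exact absurd (hz i hi j fun e => hj (mem_map_of_mem _ e)) hij
    obtain ⟨i, hi, hi'⟩ := side I hI fun i hi j hj => (hpos i hi j hj).1
    have hne : Iᶜ.Nonempty := by
      rwa [nonempty_iff_ne_empty, Ne, compl_eq_empty_iff]
    obtain ⟨j, hj, hj'⟩ := side Iᶜ hne fun i hi j hj => by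
      rw [a_symm T]
      exact (hpos j (by simpa using hj) i (mem_compl.1 hi)).1
    exact ((hpos i hi j (mem_compl.1 hj)).2).elim hi' hj'
  mulVec_m := by
    funext i
    obtain ⟨q, hq⟩ := exists_quot (T := T) i.castSucc
    have hA : ∀ j, newA T i j = T.a i.castSucc j.castSucc + T.a j.castSucc (Fin.last n) * q := by
      intro j
      rw [show newA T i j = newA T j i by
        unfold newA; rw [a_symm T j.castSucc i.castSucc, mul_comm (T.a i.castSucc (Fin.last n))],
        newA_eq h j i hq, a_symm T j.castSucc i.castSucc]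
    simp only [Matrix.mulVec, dotProduct, hA, add_mul, sum_add_distrib, Pi.zero_apply]
    have h1 := row_sum T i.castSucc
    rw [Fin.sum_univ_castSucc, hq] at h1
    have h2 := sum_last_col h
    have h3 : ∑ j : Fin n, T.a j.castSucc (Fin.last n) * q * T.m j.castSucc =
        T.w (Fin.last n) * T.m (Fin.last n) * q := by
      rw [← h2, sum_mul]; exact sum_congr rfl fun j _ => by ring
    rw [h3]
    linarith
  w_dvd i j := by
    obtain ⟨q, hq⟩ := exists_quot (T := T) j.castSucc
    rw [newA_eq h i j hq]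
    exact dvd_trans ⟨fac T i, by rw [mul_comm, fac_mul_newW T i]⟩
      (dvd_add (T.w_dvd _ _) ((T.w_dvd _ _).mul_right q))

theorem isContraction_contract : T.IsContraction (contract h) :=
  ⟨fun _ => rfl, fun _ _ => rfl, fun _ => rfl, fun _ => rfl⟩

theorem contraction_eqs {T' : NumericalType n} (hT' : T.IsContraction T') :
    (∀ i, T'.m i = T.m i.castSucc) ∧ (∀ i j, T'.a i j = newA T i j) ∧
      (∀ i, T'.w i = newW T i) ∧ ∀ i, T'.g i = newG T i := by
  obtain ⟨h1, h2, h3, h4⟩ := hT'
  exact ⟨h1, h2, h3, fun i => by rw [h4, newG, h3 i]; rfl⟩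

theorem genus_eq {T' : NumericalType n} (hT' : T.IsContraction T') : T'.genus = T.genus := by
  obtain ⟨hm, ha, hw, hg⟩ := contraction_eqs h hT'
  have hc : ∀ i : Fin n, contrib T' i =
      contrib T i.castSucc - T.a i.castSucc (Fin.last n) * T.m i.castSucc := by
    intro i
    obtain ⟨q, hq⟩ := exists_quot (T := T) i.castSucc
    unfold contrib
    rw [hm, hw, hg, ha, newA_eq h i i hq, (two_mul_genus_num h i).1, hq,
      show (T.w (Fin.last n) * q) ^ 2 - T.w (Fin.last n) * (T.w (Fin.last n) * q) =
        T.w (Fin.last n) * (T.w (Fin.last n) * q * (q - 1)) by ring,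
      Int.mul_ediv_cancel_left _ (T.w_pos _).ne']
    ring
  have e := two_genus T'
  have e' := two_genus T
  rw [Fin.sum_univ_castSucc] at e'
  simp only [hc, sum_sub_distrib, sum_last_col h] at e
  have hl : contrib T (Fin.last n) = -(T.w (Fin.last n) * T.m (Fin.last n)) := by
    unfold contrib; rw [h.1, h.2]; ring
  linarith

theorem pic_map {T' : NumericalType n} (hT' : T.IsContraction T') :
    ∃ f : T.Pic →+ T'.Pic, Function.Injective f ∧ ∀ y : T'.Pic, ∃ x : T.Pic, 2 • y = f x := by
  classical
  obtain ⟨hm, ha, hw, hg⟩ := contraction_eqs h hT'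
  choose p hp using fun i : Fin n => T.w_dvd i.castSucc (Fin.last n)
  choose q hq using fun j : Fin n => exists_quot (T := T) j.castSucc
  let t : Fin n → ℤ := fac T
  have ht0 : ∀ i, t i ≠ 0 := fun i => by rcases fac_cases T i with e | e <;> simp [t, e]
  let φ : (Fin (n + 1) → ℤ) →ₗ[ℤ] (Fin n → ℤ) :=
    LinearMap.pi fun i => t i • (LinearMap.proj i.castSucc + p i • LinearMap.proj (Fin.last n))
  have hφ : ∀ x i, φ x i = t i * (x i.castSucc + p i * x (Fin.last n)) := fun x i => by
    simp [φ]; try ring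
  have hP : ∀ i (y : Fin (n + 1) → ℤ), T.w i * T.picMatrix.mulVec y i = ∑ j, T.a i j * y j := by
    intro i y
    simp only [Matrix.mulVec, dotProduct, picMatrix, mul_sum]
    exact sum_congr rfl fun j _ => by rw [← mul_assoc, Int.mul_ediv_cancel' (T.w_dvd i j)]
  have hP' : ∀ i (y : Fin n → ℤ), T'.w i * T'.picMatrix.mulVec y i = ∑ j, T'.a i j * y j := by
    intro i y
    simp only [Matrix.mulVec, dotProduct, picMatrix, mul_sum]
    exact sum_congr rfl fun j _ => by rw [← mul_assoc, Int.mul_ediv_cancel' (T'.w_dvd i j)]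
  have key : ∀ (y : Fin (n + 1) → ℤ),
      φ (T.picMatrix.mulVec y) = T'.picMatrix.mulVec fun j => y j.castSucc := by
    intro y
    funext i
    rw [hφ]
    refine mul_left_cancel₀ (T'.w_pos i).ne' ?_
    rw [hP', hw, ← mul_assoc, mul_comm (newW T i), fac_mul_newW T i, mul_add, hP]
    have hl := hP (Fin.last n) y
    rw [Fin.sum_univ_castSucc, h.2] at hl
    simp only [a_symm T (Fin.last n)] at hl
    simp only [ha, newA_eq h i _ (hq _), Fin.sum_univ_castSucc, add_mul, sum_add_distrib]
    rw [← mul_assoc, ← hp i]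
    generalize T.picMatrix.mulVec y (Fin.last n) = z at hl ⊢
    have hz : z = (∑ j : Fin n, q j * y j.castSucc) - y (Fin.last n) := by
      refine mul_left_cancel₀ (T.w_pos (Fin.last n)).ne' ?_
      rw [hl, mul_sub, mul_sum]
      simp only [hq, mul_assoc]
      ring
    rw [hz, mul_sub, mul_sum]
    simp only [mul_assoc]
    ring
  have hle : LinearMap.range (Matrix.mulVecLin T.picMatrix) ≤
      (LinearMap.range (Matrix.mulVecLin T'.picMatrix)).comap φ := by
    rintro x ⟨y, rfl⟩
    exact ⟨fun j => y j.castSucc, (key y).symm⟩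
  refine ⟨(Submodule.mapQ _ _ φ hle).toAddMonoidHom, ?_, fun y => ?_⟩
  · rw [injective_iff_map_eq_zero]
    intro x hx
    obtain ⟨x, rfl⟩ := Submodule.Quotient.mk_surjective _ x
    simp only [LinearMap.toAddMonoidHom_coe, Submodule.mapQ_apply, Submodule.Quotient.mk_eq_zero] at hx
    obtain ⟨y, hy⟩ := hx
    rw [Submodule.Quotient.mk_eq_zero]
    refine ⟨Fin.snoc y (∑ j, q j * y j - x (Fin.last n)), ?_⟩
    set Y : Fin (n + 1) → ℤ := Fin.snoc y (∑ j, q j * y j - x (Fin.last n)) with hY
    have hlast : T.picMatrix.mulVec Y (Fin.last n) = x (Fin.last n) := by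
      refine mul_left_cancel₀ (T.w_pos (Fin.last n)).ne' ?_
      rw [hP, Fin.sum_univ_castSucc, h.2]
      simp only [a_symm T (Fin.last n), hY, Fin.snoc_castSucc, Fin.snoc_last, hq, mul_assoc,
        ← mul_sum]
      ring
    funext i
    cases i using Fin.lastCases with
    | last => exact hlast
    | cast i =>
      have h1 := congrFun (key Y) i
      simp only [hY, Fin.snoc_castSucc] at h1
      rw [← hY, hφ, hlast] at h1
      rw [Matrix.mulVecLin_apply] at hy
      rw [hy, hφ] at h1
      have := mul_left_cancel₀ (ht0 i) h1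
      rw [Matrix.mulVecLin_apply]
      linarith
  · obtain ⟨y, rfl⟩ := Submodule.Quotient.mk_surjective _ y
    refine ⟨Submodule.Quotient.mk (Fin.snoc (fun i => if t i = 2 then y i else 2 * y i) 0), ?_⟩
    rw [LinearMap.toAddMonoidHom_coe, Submodule.mapQ_apply, ← Submodule.Quotient.mk_smul]
    congr 1
    funext i
    simp only [hφ, Fin.snoc_castSucc, Fin.snoc_last, mul_zero, add_zero, Pi.smul_apply]
    rcases fac_cases T i with e | e <;> simp [t, e]

end Groth.L05.NumContract
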