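import Groth.Agent.L05.NumContract.Contract
import Mathlib.GroupTheory.ArchimedeanDensely
import Mathlib.Algebra.Group.Subgroup.Finite
import Mathlib.Tactic.Abel

/-!
# The Picard group of a numerical type of genus at most zero
-/

namespace Groth.L05.NumContract

open Finset Models Models.NumericalType Groth.L26.NumType

variable {n : ℕ}

/-- Reindexing a numerical type. -/
def permute (T : NumericalType n) (σ : Equiv.Perm (Fin n)) : NumericalType n where
  m i := T.m (σ i)
  a i j := T.a (σ i) (σ j)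
  w i := T.w (σ i)
  g i := T.g (σ i)
  pos := T.pos
  m_pos i := T.m_pos _
  w_pos i := T.w_pos _
  g_nonneg i := T.g_nonneg _
  symm := Matrix.IsSymm.ext fun i j => a_symm T _ _
  offDiag_nonneg i j hij := T.offDiag_nonneg _ _ fun e => hij (σ.injective e)
  connected I hI hI' := by
    obtain ⟨i, hi, j, hj, hij⟩ := T.connected (I.map σ.toEmbedding) hI.map (fun e => hI' (by
      rwa [← map_univ_equiv σ, map_inj] at e))
    rw [mem_map_equiv] at hi hj
    exact ⟨σ.symm i, hi, σ.symm j, hj, by simpa using hij⟩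
  mulVec_m := by
    funext i
    have := row_sum T (σ i)
    rw [← Equiv.sum_comp σ] at this
    simpa [Matrix.mulVec, dotProduct] using this
  w_dvd i j := T.w_dvd _ _

theorem genus_permute (T : NumericalType n) (σ : Equiv.Perm (Fin n)) :
    (permute T σ).genus = T.genus := by
  unfold genus permute
  rw [← Equiv.sum_comp σ (fun i => T.m i * T.w i * (T.g i - 1)),
    ← Equiv.sum_comp σ (fun i => T.m i * T.a i i)]

/-- The reindexing map on Picard groups. -/
theorem pic_permute (T : NumericalType n) (σ : Equiv.Perm (Fin n)) :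
    Nonempty (T.Pic ≃+ (permute T σ).Pic) := by
  let e : (Fin n → ℤ) ≃ₗ[ℤ] (Fin n → ℤ) := LinearEquiv.funCongrLeft ℤ ℤ σ
  refine ⟨(Submodule.Quotient.equiv _ _ e ?_).toAddEquiv⟩
  rw [← LinearMap.range_comp]
  have : (Matrix.mulVecLin (permute T σ).picMatrix).comp e.toLinearMap =
      e.toLinearMap.comp (Matrix.mulVecLin T.picMatrix) := by
    refine LinearMap.ext fun x => funext fun i => ?_
    simp only [LinearMap.comp_apply, LinearEquiv.coe_coe, e, LinearEquiv.funCongrLeft_apply,
      LinearMap.funLeft_apply, Matrix.mulVecLin_apply, Matrix.mulVec, dotProduct, picMatrix]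
    exact Equiv.sum_comp σ (fun j => T.a (σ i) j / T.w (σ i) * x j)
  rw [← this, LinearMap.range_comp_of_range_eq_top]
  exact LinearEquiv.range _

theorem pic_ne_zero (T : NumericalType n) : ∃ x : T.Pic, x ≠ 0 := by
  let d : (Fin n → ℤ) →ₗ[ℤ] ℤ := ∑ i, (T.m i * T.w i) • LinearMap.proj i
  have hd : ∀ x, d x = ∑ i, T.m i * T.w i * x i := fun x => by simp [d]
  let i₀ : Fin n := ⟨0, T.pos⟩
  refine ⟨Submodule.Quotient.mk (Pi.single i₀ 1), fun h => ?_⟩
  rw [Submodule.Quotient.mk_eq_zero] at h
  obtain ⟨y, hy⟩ := h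
  have h1 := congrArg d hy
  rw [hd, hd, Matrix.mulVecLin_apply] at h1
  have h2 : ∑ i, T.m i * T.w i * T.picMatrix.mulVec y i = 0 := by
    simp only [Matrix.mulVec, dotProduct, picMatrix, mul_sum]
    rw [sum_comm]
    refine sum_eq_zero fun j _ => ?_
    have := row_sum T j
    calc ∑ i, T.m i * T.w i * (T.a i j / T.w i * y j)
        = ∑ i, T.a j i * T.m i * y j := sum_congr rfl fun i _ => by
          rw [mul_assoc, ← mul_assoc (T.w i), Int.mul_ediv_cancel' (T.w_dvd i j), a_symm T i j]; ring
      _ = 0 := by rw [← sum_mul, this, zero_mul]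
  rw [h2] at h1
  simp [Pi.single_apply] at h1
  exact h1.elim (T.m_pos i₀).ne' (T.w_pos i₀).ne'

theorem equiv_int_of_injective {A : Type*} [AddCommGroup A] (f : A →+ ℤ)
    (hf : Function.Injective f) (hA : ∃ x : A, x ≠ 0) : Nonempty (A ≃+ ℤ) := by
  obtain ⟨g, hg⟩ := Int.subgroup_cyclic f.range
  rw [← AddSubgroup.zmultiples_eq_closure] at hg
  obtain ⟨x, hx⟩ : g ∈ f.range := hg ▸ AddSubgroup.mem_zmultiples g
  have hg0 : g ≠ 0 := by
    rintro rfl
    obtain ⟨y, hy⟩ := hA
    have : f y ∈ f.range := ⟨y, rfl⟩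
    rw [hg, AddSubgroup.zmultiples_zero_eq_bot, AddSubgroup.mem_bot] at this
    exact hy (hf (by rw [this, map_zero]))
  refine ⟨(AddEquiv.ofBijective (zmultiplesHom A x) ⟨fun a b hab => ?_, fun y => ?_⟩).symm⟩
  · have := congrArg f hab
    simp [hx] at this
    exact this.resolve_right hg0
  · have : f y ∈ f.range := ⟨y, rfl⟩
    rw [hg, AddSubgroup.mem_zmultiples_iff] at this
    obtain ⟨k, hk⟩ := this
    exact ⟨k, hf (by simp [hx, ← hk])⟩

theorem pic_int_of_genus_nonpos : ∀ (n : ℕ) (T : NumericalType n), T.genus ≤ 0 →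
    Nonempty (T.Pic ≃+ ℤ)
  | 0, T, _ => absurd T.pos (lt_irrefl 0)
  | 1, T, _ => by
    have ha : ∀ i j : Fin 1, T.a i j = 0 := by
      intro i j
      have := row_sum T i
      rw [Fin.sum_univ_one] at this
      rw [Subsingleton.elim j 0]
      exact (mul_eq_zero.1 this).resolve_right (T.m_pos 0).ne'
    have h0 : LinearMap.range (Matrix.mulVecLin T.picMatrix) = ⊥ := by
      rw [LinearMap.range_eq_bot]
      refine LinearMap.ext fun x => funext fun i => ?_
      simp [Matrix.mulVec, dotProduct, picMatrix, ha]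
    exact ⟨((Submodule.quotEquivOfEqBot _ h0).trans (LinearEquiv.funUnique (Fin 1) ℤ ℤ)).toAddEquiv⟩
  | n + 2, T, hg => by
    have hnm : ¬T.IsMinimal := fun hm => by have := one_le_genus T hm (by omega); omega
    simp only [IsMinimal, not_forall, not_not] at hnm
    obtain ⟨i, hi⟩ := hnm
    let σ := Equiv.swap i (Fin.last (n + 1))
    have h : (permute T σ).IsMinusOne (Fin.last (n + 1)) := by
      show T.g (σ _) = 0 ∧ T.a (σ _) (σ _) = -T.w (σ _)
      rw [Equiv.swap_apply_right]
      exact hi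
    have hc := isContraction_contract h
    obtain ⟨e'⟩ := pic_int_of_genus_nonpos (n + 1) (contract h)
      (by rw [genus_eq h hc, genus_permute]; exact hg)
    obtain ⟨f, hf, -⟩ := pic_map h hc
    obtain ⟨e⟩ := pic_permute T σ
    exact equiv_int_of_injective ((e'.toAddMonoidHom.comp f).comp e.toAddMonoidHom)
      (e'.injective.comp (hf.comp e.injective)) (pic_ne_zero T)

end Groth.L05.NumContract
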