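import Groth.Agent.L26.NumType.Basic

/-!
# The topological genus and the non-(-2)-indices of minimal numerical types
-/

namespace Groth.L05.NumContract

open Finset Models Models.NumericalType Groth.L26.NumType

variable {n : ℕ} (T : NumericalType n)

/-- Ordered edges inside a set of indices. -/
def ordEdges (S : Finset (Fin n)) : Finset (Fin n × Fin n) :=
  (S ×ˢ S).filter fun p => p.1 ≠ p.2 ∧ 0 < T.a p.1 p.2

/-- Neighbours inside a set. -/
def nbrs (S : Finset (Fin n)) (i : Fin n) : Finset (Fin n) :=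
  S.filter fun j => i ≠ j ∧ 0 < T.a i j

theorem card_ordEdges (S : Finset (Fin n)) :
    #(ordEdges T S) = ∑ i ∈ S, #(nbrs T S i) := by
  unfold ordEdges nbrs
  rw [Finset.card_filter, Finset.sum_product]
  exact sum_congr rfl fun i _ => (Finset.card_filter _ _).symm

theorem card_ordEdges_univ : #(ordEdges T univ) = 2 * T.edgeCount := by
  have h : ordEdges T univ =
      (univ.filter fun p : Fin n × Fin n => p.1 < p.2 ∧ 0 < T.a p.1 p.2) ∪
        (univ.filter fun p : Fin n × Fin n => p.1 < p.2 ∧ 0 < T.a p.1 p.2).map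
          (Equiv.prodComm _ _).toEmbedding := by
    ext ⟨i, j⟩
    simp only [ordEdges, mem_filter, mem_product, mem_univ, true_and, mem_union, mem_map_equiv]
    show i ≠ j ∧ 0 < T.a i j ↔ (i < j ∧ 0 < T.a i j) ∨ (j < i ∧ 0 < T.a j i)
    rw [a_symm T j i]
    constructor
    · rintro ⟨h, h'⟩
      rcases lt_or_gt_of_ne h with h1 | h1
      exacts [Or.inl ⟨h1, h'⟩, Or.inr ⟨h1, h'⟩]
    · rintro (⟨h, h'⟩ | ⟨h, h'⟩)
      exacts [⟨h.ne, h'⟩, ⟨h.ne', h'⟩]
  rw [h, card_union_of_disjoint, card_map]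
  · unfold edgeCount; ring
  · rw [disjoint_left]
    rintro ⟨i, j⟩ h1 h2
    simp only [mem_filter, mem_univ, true_and, mem_map_equiv] at h1 h2
    exact lt_asymm h1.1 h2.1

theorem sum_contrib_ge (S : Finset (Fin n))
    (hdeg : ∀ i ∈ S, 2 ≤ #(nbrs T S i)) :
    (#(ordEdges T S) : ℤ) - 2 * #S ≤ ∑ i ∈ S, contrib T i := by
  have hc : ∀ i, ∑ j ∈ S.filter (· ≠ i), T.a i j * T.m j - 2 * T.m i * T.w i ≤ contrib T i := by
    intro i
    have h1 : ∑ j ∈ S.filter (· ≠ i), T.a i j * T.m j ≤ ∑ j ∈ univ.erase i, T.a i j * T.m j :=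
      sum_le_sum_of_subset_of_nonneg (fun j hj => by
        rw [mem_filter] at hj; exact mem_erase.2 ⟨hj.2, mem_univ _⟩)
        (fun j hj _ => mul_nonneg (T.offDiag_nonneg i j (Ne.symm (mem_erase.1 hj).1)) (T.m_pos j).le)
    rw [row_sum_erase] at h1
    have : 0 ≤ T.m i * T.w i * T.g i :=
      mul_nonneg (mul_pos (T.m_pos i) (T.w_pos i)).le (T.g_nonneg i)
    unfold contrib
    linarith
  have h2 : ∑ i ∈ S, ∑ j ∈ S.filter (· ≠ i), T.a i j * T.m j =
      ∑ i ∈ S, ∑ j ∈ S.filter (· ≠ i), T.a i j * T.m i := by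
    rw [Finset.sum_comm' (t' := S) (s' := fun j => S.filter (· ≠ j))
      (by intro x y; simp only [mem_filter]; constructor <;> rintro ⟨h1, h2⟩ <;> tauto)]
    exact sum_congr rfl fun i _ => sum_congr rfl fun j _ => by rw [a_symm T j i]
  have h3 : ∀ i ∈ S, (#(nbrs T S i) : ℤ) * (T.m i * T.w i) ≤
      ∑ j ∈ S.filter (· ≠ i), T.a i j * T.m i := by
    intro i _
    refine le_trans ?_ (sum_le_sum_of_subset_of_nonneg (s := nbrs T S i) (fun j hj => ?_)
      fun j hj _ => mul_nonneg (T.offDiag_nonneg i j (Ne.symm (mem_filter.1 hj).2)) (T.m_pos i).le)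
    · rw [← nsmul_eq_mul]
      refine card_nsmul_le_sum _ _ _ fun j hj => ?_
      have hp := (mem_filter.1 hj).2.2
      rw [mul_comm]
      exact mul_le_mul_of_nonneg_right (Int.le_of_dvd hp (T.w_dvd i j)) (T.m_pos i).le
    · simp only [nbrs, mem_filter] at hj ⊢
      exact ⟨hj.1, hj.2.1.symm⟩
  calc (#(ordEdges T S) : ℤ) - 2 * #S = ∑ i ∈ S, ((#(nbrs T S i) : ℤ) - 2) := by
        rw [sum_sub_distrib, sum_const, card_ordEdges, nsmul_eq_mul]; push_cast; ring
    _ ≤ ∑ i ∈ S, ((#(nbrs T S i) : ℤ) - 2) * (T.m i * T.w i) := by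
        refine sum_le_sum fun i hi => le_mul_of_one_le_right ?_ (Int.add_one_le_iff.2 (mul_pos (T.m_pos i) (T.w_pos i)))
        have := hdeg i hi
        omega
    _ ≤ ∑ i ∈ S, (∑ j ∈ S.filter (· ≠ i), T.a i j * T.m i - 2 * T.m i * T.w i) := by
        refine sum_le_sum fun i hi => ?_
        have := h3 i hi
        linarith
    _ = ∑ i ∈ S, (∑ j ∈ S.filter (· ≠ i), T.a i j * T.m j - 2 * T.m i * T.w i) := by
        rw [sum_sub_distrib, ← h2, ← sum_sub_distrib]
    _ ≤ ∑ i ∈ S, contrib T i := sum_le_sum fun i _ => hc i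

theorem topGenus_le (hmin : T.IsMinimal) (hn : 1 < n) : T.topGenus ≤ T.genus := by
  classical
  let f : Finset (Fin n) → ℤ := fun S => (#(ordEdges T S) : ℤ) - 2 * #S
  obtain ⟨S₀, -, hS₀⟩ := (univ : Finset (Finset (Fin n))).exists_max_image f ⟨∅, mem_univ _⟩
  obtain ⟨S, hS, hScard⟩ := ((univ : Finset (Finset (Fin n))).filter fun S => f S₀ ≤ f S).exists_min_image
    card ⟨S₀, by simp⟩
  replace hS : f S₀ ≤ f S := (mem_filter.1 hS).2
  have hdeg : ∀ i ∈ S, 2 ≤ #(nbrs T S i) := by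
    intro i hi
    by_contra h
    have hsub : ordEdges T S ⊆ ordEdges T (S.erase i) ∪
        ((nbrs T S i).image fun j => (i, j)) ∪ ((nbrs T S i).image fun j => (j, i)) := by
      rintro ⟨a, b⟩ hab
      simp only [ordEdges, mem_filter, mem_product] at hab
      simp only [mem_union, mem_image, ordEdges, nbrs, mem_filter, mem_product, mem_erase,
        Prod.mk.injEq]
      rcases eq_or_ne a i with ha | ha
      · exact Or.inl (Or.inr ⟨b, ⟨hab.1.2, ha ▸ hab.2.1, ha ▸ hab.2.2⟩, ha.symm, rfl⟩)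
      rcases eq_or_ne b i with hb | hb
      · exact Or.inr ⟨a, ⟨hab.1.1, hb ▸ hab.2.1.symm, by rw [a_symm T i a]; exact hb ▸ hab.2.2⟩, rfl, hb.symm⟩
      exact Or.inl (Or.inl ⟨⟨⟨ha, hab.1.1⟩, hb, hab.1.2⟩, hab.2⟩)
    have hc := (card_le_card hsub).trans ((card_union_le _ _).trans
      (Nat.add_le_add ((card_union_le _ _).trans (Nat.add_le_add_left card_image_le _)) card_image_le))
    have he : #(S.erase i) + 1 = #S := card_erase_add_one hi
    have h1 : f S ≤ f (S.erase i) := by simp only [f]; omega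
    have := hScard (S.erase i) (mem_filter.2 ⟨mem_univ _, hS.trans h1⟩)
    omega
  have hsum := sum_contrib_ge T S hdeg
  have hle : f univ ≤ ∑ i, contrib T i :=
    ((hS₀ univ (mem_univ _)).trans hS).trans (hsum.trans
      (sum_le_sum_of_subset_of_nonneg (subset_univ _) fun i _ _ => contrib_nonneg T hmin hn i))
  rw [← two_genus] at hle
  simp only [f, card_ordEdges_univ, card_univ, Fintype.card_fin, Nat.cast_mul, Nat.cast_ofNat] at hle
  unfold topGenus
  omega

theorem contrib_pos (hmin : T.IsMinimal) (hn : 1 < n) {j : Fin n} (hj : ¬T.IsMinusTwo j) :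
    0 < contrib T j :=
  lt_of_le_of_ne (contrib_nonneg T hmin hn j) fun h => hj (minusTwo_of_zero T hn h.symm)

theorem contrib_le (hmin : T.IsMinimal) (hn : 1 < n) (j : Fin n) :
    contrib T j ≤ 2 * T.genus - 2 := by
  have := single_le_sum (f := contrib T) (fun i _ => contrib_nonneg T hmin hn i) (mem_univ j)
  have := two_genus T
  linarith

open Classical in
theorem card_non_minusTwo_le (hmin : T.IsMinimal) (hn : 1 < n) :
    ((univ.filter fun j => ¬T.IsMinusTwo j).card : ℤ) ≤ 2 * T.genus - 2 := by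
  rw [show (2 * T.genus - 2 : ℤ) = ∑ i, contrib T i by rw [← two_genus]; ring]
  refine le_trans ?_ (sum_le_sum_of_subset_of_nonneg (s := univ.filter fun j => ¬T.IsMinusTwo j)
    (subset_univ _) fun i _ _ => contrib_nonneg T hmin hn i)
  rw [← nsmul_one]
  exact card_nsmul_le_sum _ _ _ fun j hj => contrib_pos T hmin hn (mem_filter.1 hj).2

theorem bounds_non_minusTwo (hmin : T.IsMinimal) (hn : 1 < n) {j : Fin n} (hj : ¬T.IsMinusTwo j) :
    T.g j < T.genus ∧ T.m j * |T.a j j| ≤ 6 * T.genus - 6 ∧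
      ∀ i, T.m i * T.a i j ≤ 6 * T.genus - 6 := by
  have hpos := contrib_pos T hmin hn hj
  have hle := contrib_le T hmin hn j
  obtain ⟨k, hk1, hk⟩ := exists_diag T hn j
  rw [contrib_eq T hk] at hpos hle
  have hx : 1 ≤ T.m j * T.w j := Int.add_one_le_iff.2 (mul_pos (T.m_pos j) (T.w_pos j))
  have hd : 0 < 2 * (T.g j - 1) + k := pos_of_mul_pos_right hpos (by omega)
  have hg := T.g_nonneg j
  have h1 : 2 * (T.g j - 1) + k ≤ T.m j * T.w j * (2 * (T.g j - 1) + k) := le_mul_of_one_le_left hd.le hx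
  have habs : |T.a j j| = k * T.w j := by
    rw [hk, abs_neg, abs_of_nonneg (mul_nonneg (by omega) (T.w_pos j).le)]
  have hk3 : T.m j * (k * T.w j) ≤ 6 * T.genus - 6 := by
    have h3 : T.m j * T.w j * k ≤ T.m j * T.w j * (3 * (2 * (T.g j - 1) + k)) :=
      mul_le_mul_of_nonneg_left (by omega) (by omega)
    linarith
  refine ⟨by omega, habs ▸ hk3, fun i => ?_⟩
  have hself : T.m j * T.a j j ≤ 0 :=
    (mul_nonpos_iff.2 (Or.inl ⟨(T.m_pos j).le, (diag_neg T hn j).le⟩))
  rcases eq_or_ne i j with rfl | hij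
  · omega
  rcases (T.offDiag_nonneg i j hij).lt_or_eq with h | h
  · have h4 := le_of_pos_offDiag T (i := j) (j := i) (by rw [a_symm T j i]; exact h) hij.symm
    rw [a_symm T j i, hk] at h4
    linarith
  · rw [← h, mul_zero]; omega

end Groth.L05.NumContract
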