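import Groth.Agent.L05.NumContract.PicInt
import Groth.Agent.L05.NumContract.Bound768
import Groth.Agent.L05.NumLap.Core
import Groth.Agent.S2179
import Mathlib.GroupTheory.FiniteAbelian.Basic

/-!
# The prime torsion of the Picard group of a numerical type
-/

namespace Groth.L05.NumContract

open Finset Models Models.NumericalType Groth.L26.NumType

variable {n : ℕ}

theorem finite_torsionBy {M : Type*} [AddCommGroup M] [Module.Finite ℤ M] (ℓ : ℤ) (hℓ : ℓ ≠ 0) :
    Finite (Submodule.torsionBy ℤ M ℓ) := by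
  refine Module.finite_of_fg_torsion _ fun x => ⟨⟨ℓ, mem_nonZeroDivisors_of_ne_zero hℓ⟩, ?_⟩
  exact Submodule.smul_torsionBy _ x

theorem card_torsionBy_le_of_injective {A B : Type*} [AddCommGroup A] [AddCommGroup B]
    [Module.Finite ℤ B] (f : A →+ B) (hf : Function.Injective f) (ℓ : ℤ) (hℓ : ℓ ≠ 0) :
    Nat.card (Submodule.torsionBy ℤ A ℓ) ≤ Nat.card (Submodule.torsionBy ℤ B ℓ) := by
  haveI := finite_torsionBy (M := B) ℓ hℓ
  refine Nat.card_le_card_of_injective
    (fun x => ⟨f x.1, (Submodule.mem_torsionBy_iff ℓ _).2 (by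
      rw [← map_zsmul, (Submodule.mem_torsionBy_iff ℓ _).1 x.2, map_zero])⟩) ?_
  intro x y h
  exact Subtype.ext (hf (Subtype.ext_iff.1 h))

theorem card_torsion_minimal (T : NumericalType n) (hmin : T.IsMinimal) (hg : 2 ≤ T.genus)
    (ℓ : ℕ) (hℓ : ℓ.Prime) (hℓg : 768 * T.genus < ℓ) :
    Nat.card (Submodule.torsionBy ℤ T.Pic (ℓ : ℤ)) ≤ ℓ ^ T.topGenus.toNat ∧
      T.topGenus ≤ T.genus := by
  haveI : Fact ℓ.Prime := ⟨hℓ⟩
  have hℓ0 : (ℓ : ℤ) ≠ 0 := by exact_mod_cast hℓ.ne_zero
  rcases Nat.lt_or_ge 1 n with hn | hn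
  · refine ⟨?_, topGenus_le T hmin hn⟩
    have hnd : ∀ x : ℤ, x ≠ 0 → |x| ≤ 768 * T.genus → ¬(ℓ : ℤ) ∣ x := by
      intro x hx hle hdvd
      have := Int.le_of_dvd (abs_pos.2 hx) ((dvd_abs _ _).2 hdvd)
      omega
    have hbound := fun i j => mul_abs_le T hmin hg i j
    obtain ⟨f, hf, -⟩ := Groth.Agent.S2179.result T
    refine (card_torsionBy_le_of_injective f hf _ hℓ0).trans ?_
    refine (NumLap.card_torsionBy_coker_le (ℓ := ℓ) T.a T.m T.symm T.offDiag_nonneg T.m_pos T.mulVec_m
      T.connected (fun i j hij => hnd _ hij ?_) fun i => hnd _ (T.m_pos i).ne' ?_).trans_eq ?_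
    · exact (le_mul_of_one_le_left (abs_nonneg _) (T.m_pos i)).trans (hbound i j)
    · rw [abs_of_pos (T.m_pos i)]
      refine (le_mul_of_one_le_right (T.m_pos i).le ?_).trans (hbound i i)
      exact abs_pos.2 (diag_neg T hn i).ne
    · congr 1
      have he : Fintype.card (NumLap.Edge T.a) = T.edgeCount := Fintype.card_subtype _
      unfold topGenus
      omega
  · have h1 : n = 1 := by have := T.pos; omega
    subst h1
    have ha : ∀ i j : Fin 1, T.a i j = 0 := by
      intro i j
      have := row_sum T i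
      rw [Fin.sum_univ_one] at this
      rw [Subsingleton.elim j 0]
      exact (mul_eq_zero.1 this).resolve_right (T.m_pos 0).ne'
    have he : T.edgeCount = 0 := by
      unfold edgeCount
      rw [card_eq_zero, filter_eq_empty_iff]
      rintro ⟨i, j⟩ - ⟨hlt, -⟩
      exact hlt.ne (Subsingleton.elim i j)
    have ht : T.topGenus = 0 := by unfold topGenus; rw [he]; norm_num
    refine ⟨?_, by omega⟩
    rw [ht, Int.toNat_zero, pow_zero]
    have hbot : LinearMap.range (Matrix.mulVecLin T.picMatrix) = ⊥ := by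
      rw [LinearMap.range_eq_bot]
      refine LinearMap.ext fun x => funext fun i => ?_
      simp [Matrix.mulVec, dotProduct, picMatrix, ha]
    have hsub : Subsingleton (Submodule.torsionBy ℤ T.Pic (ℓ : ℤ)) := by
      refine subsingleton_of_forall_eq 0 fun x => Subtype.ext ?_
      let e := (Submodule.quotEquivOfEqBot _ hbot).trans (LinearEquiv.funUnique (Fin 1) ℤ ℤ)
      apply e.injective
      have := congrArg e ((Submodule.mem_torsionBy_iff (ℓ : ℤ) _).1 x.2)
      rw [map_smul, map_zero, smul_eq_mul, mul_eq_zero] at this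
      rw [Submodule.coe_zero, map_zero]
      exact this.resolve_left hℓ0
    exact (Finite.card_le_one_iff_subsingleton).2 hsub

theorem card_torsion_le : ∀ (n : ℕ) (T : NumericalType n), 2 ≤ T.genus → ∀ ℓ : ℕ, ℓ.Prime →
    768 * T.genus < ℓ → Nat.card (Submodule.torsionBy ℤ T.Pic (ℓ : ℤ)) ≤ ℓ ^ T.genus.toNat
  | 0, T, _, _, _, _ => absurd T.pos (lt_irrefl 0)
  | 1, T, hg, ℓ, hℓ, hℓg => by
    have hmin : T.IsMinimal := fun i hi => by
      have := row_sum T i
      rw [Fin.sum_univ_one, Subsingleton.elim 0 i, hi.2] at this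
      have := (mul_eq_zero.1 this).resolve_right (T.m_pos i).ne'
      have := T.w_pos i
      omega
    obtain ⟨h1, h2⟩ := card_torsion_minimal T hmin hg ℓ hℓ hℓg
    exact h1.trans (Nat.pow_le_pow_right hℓ.pos (Int.toNat_le_toNat h2))
  | n + 2, T, hg, ℓ, hℓ, hℓg => by
    by_cases hmin : T.IsMinimal
    · obtain ⟨h1, h2⟩ := card_torsion_minimal T hmin hg ℓ hℓ hℓg
      exact h1.trans (Nat.pow_le_pow_right hℓ.pos (Int.toNat_le_toNat h2))
    simp only [IsMinimal, not_forall, not_not] at hmin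
    obtain ⟨i, hi⟩ := hmin
    let σ := Equiv.swap i (Fin.last (n + 1))
    have h : (permute T σ).IsMinusOne (Fin.last (n + 1)) := by
      show T.g (σ _) = 0 ∧ T.a (σ _) (σ _) = -T.w (σ _)
      rw [Equiv.swap_apply_right]
      exact hi
    have hc := isContraction_contract h
    have he : (contract h).genus = T.genus := by rw [genus_eq h hc, genus_permute]
    obtain ⟨f, hf, -⟩ := pic_map h hc
    obtain ⟨e⟩ := pic_permute T σ
    refine (card_torsionBy_le_of_injective (f.comp e.toAddMonoidHom) (hf.comp e.injective) _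
      (by exact_mod_cast hℓ.ne_zero)).trans ?_
    exact (card_torsion_le (n + 1) (contract h) (by omega) ℓ hℓ (by omega)).trans_eq (by rw [he])

end Groth.L05.NumContract
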